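import Mathlib.RingTheory.IntegralDomain
import Mathlib.FieldTheory.Finite.Basic
import Mathlib.Algebra.CharP.Lemmas

/-!
# Abelian groups acting faithfully and irreducibly on an elementary abelian group

Such a group is cyclic of order dividing `|V| - 1`, and its elements of order dividing `p - 1` act
as scalars.
-/

set_option autoImplicit false
set_option linter.unusedSectionVars false
set_option linter.style.haveILetI false

namespace Cfsg.Agent.PF9

universe u v

variable {A : Type u} [Group A] [Finite A] {V : Type v} [AddCommGroup V] [Finite V] [Nontrivial V]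
  {p : ℕ} [hp : Fact p.Prime] (ρ : A →* AddMonoid.End V) (hρ : Function.Injective ρ)
  (hcomm : ∀ a b : A, ρ a * ρ b = ρ b * ρ a) (hpV : ∀ v : V, p • v = 0)
  (hirr : ∀ W : AddSubgroup V, (∀ a : A, ∀ v ∈ W, ρ a v ∈ W) → W = ⊥ ∨ W = ⊤)
include hρ hcomm hpV hirr

/-- Schur's lemma in the abelian case. -/
theorem irreducible_abelian :
    IsCyclic A ∧ Nat.card A ∣ Nat.card V - 1 ∧
      ∀ a : A, a ^ (p - 1) = 1 → ∀ f : AddMonoid.End V, ρ a * f = f * ρ a := by
  classical
  set s : Set (AddMonoid.End V) := Set.range ρ with hs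
  have hsc : ∀ x ∈ s, ∀ y ∈ s, x * y = y * x := by
    rintro _ ⟨a, rfl⟩ _ ⟨b, rfl⟩; exact hcomm a b
  haveI := Subring.isMulCommutative_closure hsc
  let R := Subring.closure s
  letI : CommRing R := { (inferInstance : Ring R) with mul_comm := fun a b => mul_comm' a b }
  -- elements of `R` commute with `ρ`
  have hRc : ∀ (r : R) (a : A) (v : V), (r : AddMonoid.End V) (ρ a v) = ρ a ((r : AddMonoid.End V) v) :=
    fun r a v => by
      have h := congrArg Subtype.val (mul_comm r (⟨ρ a, Subring.subset_closure ⟨a, rfl⟩⟩ : R))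
      exact DFunLike.congr_fun h v
  have hinj : ∀ r : R, r ≠ 0 → Function.Injective (r : AddMonoid.End V) := by
    intro r hr
    rcases hirr (AddMonoidHom.ker (r : AddMonoid.End V)) (fun a v hv => by
      show (r : AddMonoid.End V) (ρ a v) = 0
      rw [hRc, show (r : AddMonoid.End V) v = 0 from hv, map_zero]) with h | h
    · exact (AddMonoidHom.ker_eq_bot_iff _).mp h
    · refine absurd (Subtype.ext (AddMonoidHom.ext fun v => ?_)) hr
      exact (h.ge (AddSubgroup.mem_top v) : _)
  obtain ⟨v₀, hv₀⟩ := exists_ne (0 : V)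
  haveI : Nontrivial R := ⟨1, 0, fun h => hv₀ (DFunLike.congr_fun (congrArg Subtype.val h) v₀)⟩
  haveI : NoZeroDivisors R := ⟨fun {a b} hab => by
    by_contra hne
    push Not at hne
    have h1 : ((a : AddMonoid.End V) * b) v₀ = 0 := DFunLike.congr_fun (congrArg Subtype.val hab) v₀
    exact hv₀ (hinj b hne.2 ((hinj a hne.1 (h1.trans (map_zero (a : AddMonoid.End V)).symm)).trans
      (map_zero (b : AddMonoid.End V)).symm))⟩
  haveI : IsDomain R := NoZeroDivisors.to_isDomain R
  haveI : Finite (AddMonoid.End V) := Finite.of_injective _ DFunLike.coe_injective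
  haveI : Finite R := Subtype.finite
  let ev : R →+ V :=
    { toFun := fun r => (r : AddMonoid.End V) v₀
      map_zero' := rfl
      map_add' := fun _ _ => rfl }
  have hev : Function.Bijective ev := by
    constructor
    · intro x y hxy
      by_contra hne
      refine hv₀ (hinj (x - y) (sub_ne_zero.mpr hne) (?_ : _ = _))
      show ((x : AddMonoid.End V) v₀ - (y : AddMonoid.End V) v₀) = ((x - y : R) : AddMonoid.End V) 0
      rw [map_zero, show (x : AddMonoid.End V) v₀ = (y : AddMonoid.End V) v₀ from hxy, sub_self]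
    · rcases hirr ev.range (by
        rintro a _ ⟨r, rfl⟩
        exact ⟨⟨ρ a, Subring.subset_closure ⟨a, rfl⟩⟩ * r, rfl⟩) with h | h
      · exact absurd (h.le ⟨1, rfl⟩ : v₀ ∈ (⊥ : AddSubgroup V)) hv₀
      · exact AddMonoidHom.range_eq_top.mp h
  let f : A →* R :=
    { toFun := fun a => ⟨ρ a, Subring.subset_closure ⟨a, rfl⟩⟩
      map_one' := Subtype.ext (map_one ρ)
      map_mul' := fun a b => Subtype.ext (map_mul ρ a b) }
  have hf : Function.Injective f := fun a b h => hρ (congrArg Subtype.val h)
  refine ⟨isCyclic_of_injective_ringHom f hf, ?_, fun a ha g => ?_⟩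
  · rw [← Nat.card_congr (Equiv.ofBijective ev hev)]
    letI : Field R := (Finite.isField_of_domain R).toField
    rw [← Nat.card_units]
    exact Subgroup.card_dvd_of_injective f.toHomUnits fun x y h => hf (congrArg Units.val h)
  -- `ρ a` is a `(p - 1)`-st root of unity, hence in the prime field
  haveI : CharP R p := (CharP.charP_iff_prime_eq_zero hp.out).mpr (Subtype.ext (by
    rw [Subring.coe_natCast]
    exact AddMonoidHom.ext fun v => (AddMonoid.End.natCast_apply p v).trans (hpV v)))
  obtain ⟨c, hc⟩ : ∃ c : (ZMod p)ˣ, (ZMod.castHom dvd_rfl R) (c : ZMod p) = f a := by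
    have hsub : (Finset.univ.image fun c : (ZMod p)ˣ => (ZMod.castHom dvd_rfl R) (c : ZMod p)) ⊆
        (Polynomial.nthRoots (p - 1) (1 : R)).toFinset := by
      intro x hx
      obtain ⟨c, -, rfl⟩ := Finset.mem_image.mp hx
      rw [Multiset.mem_toFinset, Polynomial.mem_nthRoots (Nat.sub_pos_of_lt hp.out.one_lt),
        ← map_pow, ← Units.val_pow_eq_pow_val, ZMod.units_pow_card_sub_one_eq_one, Units.val_one,
        map_one]
    have hcard : (Polynomial.nthRoots (p - 1) (1 : R)).toFinset.card ≤
        (Finset.univ.image fun c : (ZMod p)ˣ => (ZMod.castHom dvd_rfl R) (c : ZMod p)).card := by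
      rw [Finset.card_image_of_injective _ (fun c d h =>
        Units.ext ((ZMod.castHom dvd_rfl R).injective h)), Finset.card_univ, ZMod.card_units]
      exact (Multiset.toFinset_card_le _).trans (Polynomial.card_nthRoots _ _)
    have hmem : f a ∈ (Polynomial.nthRoots (p - 1) (1 : R)).toFinset := by
      rw [Multiset.mem_toFinset, Polynomial.mem_nthRoots (Nat.sub_pos_of_lt hp.out.one_lt),
        ← map_pow, ha, map_one]
    rw [← Finset.eq_of_subset_of_card_le hsub hcard] at hmem
    obtain ⟨c, -, hc⟩ := Finset.mem_image.mp hmem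
    exact ⟨c, hc⟩
  have h1 : ρ a = (((c : ZMod p).val : ℕ) : AddMonoid.End V) := by
    show (f a : AddMonoid.End V) = _
    rw [← hc, ← ZMod.natCast_zmod_val (c : ZMod p), map_natCast, ZMod.natCast_zmod_val]
    rfl
  rw [h1]
  exact (Nat.cast_commute _ g).eq

end Cfsg.Agent.PF9
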