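import Cfsg.Agent.PF9.ChiefU
import Cfsg.Agent.PF9.Module
import Cfsg.Agent.BGSigma.Transitive

/-!
# Peterfalvi (9.7): the action of `U` on the chief factor `H / H₀`

Either `U` acts irreducibly, and then `U / C` is cyclic of order prime to `p - 1` dividing
`(p ^ q - 1) / (p - 1)`, or `H / H₀` is the sum of `q` lines permuted by `W₁` and `U / C` has
exponent dividing `p - 1` and order dividing `(p - 1) ^ q`.
-/

set_option autoImplicit false
set_option linter.unusedSectionVars false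
set_option linter.style.haveILetI false

namespace Cfsg.Agent.PF9

open Cfsg Subgroup
open Cfsg.Agent.OddLocal44.PF11 (GroupHyp ChiefHyp)
open scoped commutatorElement

universe u

/-- The `(p - 1)`-st power of an element normalizing a subgroup of order `p` centralizes it. -/
theorem line_fix {M : Type u} [Group M] {p : ℕ} [hp : Fact p.Prime] {Z : Subgroup M}
    (hZ : Nat.card Z = p) {v : M} (hv : v ∈ normalizer (Z : Set M)) {z : M} (hz : z ∈ Z) :
    v ^ (p - 1) * z * (v ^ (p - 1))⁻¹ = z := by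
  haveI : IsCyclic Z := isCyclic_of_prime_card hZ
  haveI : Finite Z := Nat.finite_of_card_ne_zero (hZ ▸ hp.out.ne_zero)
  let φ : MulAut Z := Z.normalizerMonoidHom ⟨v, hv⟩
  have h1 : φ ^ (p - 1) = 1 := by
    have h2 := pow_card_eq_one' (G := MulAut Z) (x := φ)
    rwa [IsCyclic.card_mulAut, hZ, Nat.totient_prime hp.out] at h2
  have h3 : Z.normalizerMonoidHom (⟨v, hv⟩ ^ (p - 1)) ⟨z, hz⟩ = ⟨z, hz⟩ := by
    rw [map_pow]; exact DFunLike.congr_fun h1 ⟨z, hz⟩
  exact congrArg Subtype.val h3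

/-- Automorphisms of a commutative group as endomorphisms of the additive group. -/
def autEnd (V : Type u) [CommGroup V] : MulAut V →* AddMonoid.End (Additive V) where
  toFun e := MonoidHom.toAdditive e.toMonoidHom
  map_one' := rfl
  map_mul' _ _ := rfl

variable {L : Type u} [Group L] [Finite L] {K H U W₁ W₂ : Subgroup L} {p q : ℕ}

/-- The Galois case. -/
structure GaloisCase (H U H₀ C : Subgroup L) (p q : ℕ) : Prop where
  irr : ∀ N : Subgroup L, H₀ ≤ N → N ≤ H → U ≤ normalizer (N : Set L) → N = H₀ ∨ N = H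
  cyclic : ∃ g ∈ U, zpowers g ⊔ C = U
  coprime : (C.relIndex U).Coprime (p - 1)
  dvd : C.relIndex U ∣ (p ^ q - 1) / (p - 1)
  fpf : ∀ u ∈ U, u ∉ C → ∀ h ∈ H, u * h * u⁻¹ * h⁻¹ ∈ H₀ → h ∈ H₀

/-- The non-Galois case. -/
structure LineCase (H U W₁ H₀ C X : Subgroup L) (p q : ℕ) : Prop where
  le : H₀ ≤ X
  le' : X ≤ H
  card_eq : H₀.relIndex X = p
  norm : U ≤ normalizer (X : Set L)
  span : ∀ w ∈ W₁, w ≠ 1 → ∀ N : Subgroup L,
    (∀ i < q, X.map (MulAut.conj (w ^ i)).toMonoidHom ≤ N) → H ≤ N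
  pow_mem : ∀ u ∈ U, u ^ (p - 1) ∈ C
  dvd : C.relIndex U ∣ (p - 1) ^ q
  moves : ∃ u ∈ U, ∃ x ∈ X, u * x * u⁻¹ * x⁻¹ ∉ H₀

variable (hh : GroupHyp K H U W₁ W₂ p q) (hnc : ¬ U ≤ centralizer (H : Set L))
  (hab : ⁅U, U⁆ ≤ U ⊓ centralizer (H : Set L))
include hh hnc hab

local notation "H₀" => H ⊓ centralizer (U : Set L)
local notation "C₀" => U ⊓ centralizer (H : Set L)

/-- An element of `U` fixed by `W₁` modulo `C` lies in `C`. -/
theorem fixed_mem {u : L} (hu : u ∈ U) (hf : ∀ w ∈ W₁, w * u * w⁻¹ * u⁻¹ ∈ C₀) : u ∈ C₀ := by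
  haveI : Fact q.Prime := ⟨hh.hq⟩
  haveI : (C₀).Normal := (chiefHyp hh hnc).C_normal hh (U_ne hh hnc)
  let S := {x : L // x * u⁻¹ ∈ C₀}
  have hmem : ∀ (w : W₁) (x : S), (w : L) * x.1 * (w : L)⁻¹ * u⁻¹ ∈ C₀ := fun w x => by
    rw [show (w : L) * x.1 * (w : L)⁻¹ * u⁻¹ =
      ((w : L) * (x.1 * u⁻¹) * (w : L)⁻¹) * ((w : L) * u * (w : L)⁻¹ * u⁻¹) by group]
    exact mul_mem ((inferInstance : (C₀).Normal).conj_mem _ x.2 w) (hf w w.2)
  letI : MulAction W₁ S :=
    { smul := fun w x => ⟨(w : L) * x.1 * (w : L)⁻¹, hmem w x⟩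
      one_smul := fun x => Subtype.ext (show (1 : L) * x.1 * (1 : L)⁻¹ = x.1 by simp)
      mul_smul := fun a b x => Subtype.ext (show ((a * b : W₁) : L) * x.1 * ((a * b : W₁) : L)⁻¹
        = (a : L) * ((b : L) * x.1 * (b : L)⁻¹) * (a : L)⁻¹ by simp [mul_assoc]) }
  have hS : Nat.card S = Nat.card ↥(C₀) :=
    Nat.card_congr ((Equiv.mulRight u⁻¹).subtypeEquiv fun _ => Iff.rfl)
  have hpW : IsPGroup q W₁ := IsPGroup.of_card (n := 1) (by rw [hh.card_W₁, pow_one])
  obtain ⟨x, hx⟩ := hpW.nonempty_fixed_point_of_prime_not_dvd_card S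
    (hS ▸ hh.not_q_dvd _ (inf_le_left.trans hh.U_le))
  obtain ⟨w, hw, hw1⟩ := hh.exists_w
  have hxU : x.1 ∈ U := by
    have := mul_mem (show x.1 * u⁻¹ ∈ U from (x.2).1) hu
    rwa [inv_mul_cancel_right] at this
  have h1 : x.1 = 1 := hh.fpf hw hw1 hxU
    (mul_inv_eq_iff_eq_mul.1 (congrArg Subtype.val (hx ⟨w, hw⟩) : w * x.1 * w⁻¹ = x.1))
  have := x.2
  rw [h1, one_mul, inv_mem_iff] at this
  exact this

omit hab in
/-- Subgroups between `H₀` and `H` are normalized by `H`. -/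
theorem H_le_normalizer {N : Subgroup L} (h0 : H₀ ≤ N) (hN : N ≤ H) :
    H ≤ normalizer (N : Set L) := by
  refine Coprime.le_normalizer_of_conj_mem fun h hh' a ha => ?_
  rw [show h * a * h⁻¹ = ⁅h, a⁆ * a by simp [commutatorElement_def]]
  exact mul_mem (h0 (commutator_le_H₀ hh hnc (commutator_mem_commutator hh' (hN ha)))) ha

/-- Peterfalvi (9.7). -/
theorem dichotomy :
    GaloisCase H U H₀ C₀ p q ∨ ∃ X : Subgroup L, LineCase H U W₁ H₀ C₀ X p q := by
  classical
  haveI := hh.H_normal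
  haveI : Fact p.Prime := ⟨hh.hp⟩
  haveI hn0 := normal_H₀ hh hnc
  set π := QuotientGroup.mk' H₀ with hπ
  have hπ0 : ∀ {a : L}, π a = 1 ↔ a ∈ H₀ := fun {a} => QuotientGroup.eq_one_iff a
  have hπeq : ∀ {a b : L}, π a = π b ↔ a * b⁻¹ ∈ H₀ := fun {a b} => by
    rw [← hπ0, map_mul, map_inv, mul_inv_eq_one]
  set Hb := H.map π with hHb
  haveI : Hb.Normal := hh.H_normal.map π (QuotientGroup.mk'_surjective _)
  haveI : IsMulCommutative Hb := ⟨⟨by
    rintro ⟨_, a, ha, rfl⟩ ⟨_, b, hb, rfl⟩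
    refine Subtype.ext (show π a * π b = π b * π a from ?_)
    rw [← commutatorElement_eq_one_iff_mul_comm, ← map_commutatorElement, hπ0]
    exact commutator_le_H₀ hh hnc (commutator_mem_commutator ha hb)⟩⟩
  have hnorm : ∀ x : L, π x ∈ normalizer (Hb : Set (L ⧸ H₀)) := fun x =>
    (normalizer_eq_top_iff.2 inferInstance).ge trivial
  let act : L →* MulAut Hb := Hb.normalizerMonoidHom.comp (π.codRestrict _ hnorm)
  have hact : ∀ (x : L) (z : Hb), ((act x z : Hb) : L ⧸ H₀) = π x * z * (π x)⁻¹ := fun _ _ => rfl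
  let φ : U →* MulAut Hb := act.comp U.subtype
  have hφ : ∀ (u : U) (z : Hb), ((φ u z : Hb) : L ⧸ H₀) = π u * z * (π u)⁻¹ := fun _ _ => rfl
  have hker : ∀ u : U, φ u = 1 ↔ (u : L) ∈ C₀ := fun u => by
    rw [mem_centralizerU hh hnc]
    refine ⟨fun he => ⟨u.2, fun h hhH => ?_⟩, fun he => MulEquiv.ext ?_⟩
    · have h1 := congrArg Subtype.val (DFunLike.congr_fun he ⟨π h, h, hhH, rfl⟩)
      rw [hφ] at h1
      rw [← hπeq, map_mul, map_mul, map_inv]
      exact h1
    · rintro ⟨_, h, hhH, rfl⟩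
      refine Subtype.ext ((hφ u _).trans ?_)
      show π u * π h * (π u)⁻¹ = π h
      rw [← map_mul, ← map_inv, ← map_mul, hπeq]
      exact he.2 h hhH
  have hφcomm : ∀ a b : U, φ a * φ b = φ b * φ a := fun a b => by
    rw [← commutatorElement_eq_one_iff_mul_comm, ← map_commutatorElement, hker]
    exact hab (commutator_mem_commutator a.2 b.2)
  have hHbc : Nat.card Hb = p ^ q := by
    rw [hHb, ← Subgroup.relIndex_ker, hπ, QuotientGroup.ker_mk']
    exact relIndex_H₀ hh hnc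
  have hindex : (C₀).relIndex U = Nat.card φ.range := by
    rw [← Subgroup.index_ker, Subgroup.relIndex]
    congr 1
    ext u
    rw [mem_subgroupOf, MonoidHom.mem_ker, hker]
  by_cases hirr : ∀ N : Subgroup L, H₀ ≤ N → N ≤ H → U ≤ normalizer (N : Set L) → N = H₀ ∨ N = H
  · left
    haveI : Nontrivial (Additive Hb) := by
      haveI : Nontrivial Hb := Finite.one_lt_card_iff_nontrivial.mp
        (hHbc ▸ Nat.one_lt_pow hh.hq.ne_zero hh.hp.one_lt)
      infer_instance
    open scoped IsMulCommutative in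
    let ρ : φ.range →* AddMonoid.End (Additive Hb) := (autEnd Hb).comp φ.range.subtype
    have hρ : Function.Injective ρ := fun a b he => Subtype.ext (MulEquiv.ext fun z => by
      have h1 := DFunLike.congr_fun he (Additive.ofMul z)
      exact congrArg Additive.toMul h1)
    open scoped IsMulCommutative in
    obtain ⟨hcyc, hdvd, hscal⟩ := irreducible_abelian (p := p) ρ hρ
      (fun a b => by
        obtain ⟨a', ha'⟩ := a.2
        obtain ⟨b', hb'⟩ := b.2
        rw [← map_mul, ← map_mul]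
        congr 1
        exact Subtype.ext (show (a : MulAut Hb) * b = b * a by rw [← ha', ← hb', hφcomm]))
      (fun v => by
        obtain ⟨h, hhH, hv⟩ := (Additive.toMul v).2
        apply Additive.toMul.injective
        refine Subtype.ext (show ((Additive.toMul v : Hb) : L ⧸ H₀) ^ p = 1 from ?_)
        rw [← hv, ← map_pow, hπ0]
        exact pow_mem_H₀ hh hnc hhH)
      (fun W hW => by
        let N : Subgroup L :=
          { carrier := {x | ∃ hx : π x ∈ Hb, Additive.ofMul (⟨π x, hx⟩ : Hb) ∈ W ∧ x ∈ H}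
            one_mem' := ⟨by rw [map_one]; exact one_mem _, by
              simp only [map_one]; exact W.zero_mem, one_mem _⟩
            mul_mem' := fun {a b} ⟨ha, ha', haH⟩ ⟨hb, hb', hbH⟩ =>
              ⟨by rw [map_mul]; exact mul_mem ha hb, by
                simp only [map_mul]; exact W.add_mem ha' hb', mul_mem haH hbH⟩
            inv_mem' := fun {a} ⟨ha, ha', haH⟩ =>
              ⟨by rw [map_inv]; exact inv_mem ha, by
                simp only [map_inv]; exact W.neg_mem ha', inv_mem haH⟩ }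
        have h0N : H₀ ≤ N := fun x hx => ⟨by rw [hπ0.2 hx]; exact one_mem _, by
          simp only [hπ0.2 hx]; exact W.zero_mem, hx.1⟩
        have hUN : U ≤ normalizer (N : Set L) := by
          refine Coprime.le_normalizer_of_conj_mem fun u hu x hx => ?_
          obtain ⟨hx1, hx2, hxH⟩ := hx
          have h1 := hW ⟨φ ⟨u, hu⟩, ⟨_, rfl⟩⟩ _ hx2
          refine ⟨⟨u * x * u⁻¹, hh.H_normal.conj_mem x hxH u, rfl⟩, ?_,
            hh.H_normal.conj_mem x hxH u⟩
          simp only [map_mul, map_inv]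
          exact h1
        rcases hirr N h0N (fun x hx => hx.2.2) hUN with hN | hN
        · refine Or.inl (eq_bot_iff.mpr fun v hv => ?_)
          obtain ⟨⟨_, h, hhH, rfl⟩, rfl⟩ := (Additive.ofMul (α := Hb)).surjective v
          have h2 : h ∈ N := ⟨⟨h, hhH, rfl⟩, hv, hhH⟩
          rw [hN] at h2
          exact (AddSubgroup.mem_bot).mpr (congrArg Additive.ofMul (Subtype.ext (hπ0.2 h2) :
            (⟨π h, _⟩ : Hb) = 1))
        · refine Or.inr (eq_top_iff.mpr fun v _ => ?_)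
          obtain ⟨⟨_, h, hhH, rfl⟩, rfl⟩ := (Additive.ofMul (α := Hb)).surjective v
          obtain ⟨hx1, hx2, -⟩ := hN.ge hhH
          exact hx2)
    have hscal' : ∀ u : U, φ u ^ (p - 1) = 1 → (u : L) ∈ C₀ := fun u hu => by
      refine fixed_mem hh hnc hab u.2 fun w hw => ?_
      have hwu : w * u * w⁻¹ ∈ U := (mem_normalizer_iff.1 (hh.U_norm hw) u).1 u.2
      open scoped IsMulCommutative in
      have h1 := hscal ⟨φ u, u, rfl⟩ (Subtype.ext hu) (autEnd Hb (act w))
      have h2 : φ u * act w = act w * φ u := MulEquiv.ext fun z => by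
        open scoped IsMulCommutative in
        exact congrArg Additive.toMul (DFunLike.congr_fun h1 (Additive.ofMul z))
      refine (hker ⟨_, mul_mem hwu (inv_mem u.2)⟩).1 ?_
      show act (w * u * w⁻¹ * (u : L)⁻¹) = 1
      rw [map_mul, map_mul, map_mul, show act (u : L) = φ u from rfl, ← h2, map_inv, map_inv]
      show φ u * act w * (act w)⁻¹ * (φ u)⁻¹ = 1
      group
    have hcop : ((C₀).relIndex U).Coprime (p - 1) := Nat.coprime_of_dvd fun r hr h1 h2 => by
      haveI := Fact.mk hr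
      rw [hindex] at h1
      obtain ⟨⟨_, u, rfl⟩, hu⟩ := exists_prime_orderOf_dvd_card' r h1
      replace hu : orderOf (φ u) = r := (Subgroup.orderOf_coe _).trans hu
      have h3 : φ u = 1 := (hker u).2 (hscal' u (orderOf_dvd_iff_pow_eq_one.1 (hu ▸ h2)))
      rw [h3, orderOf_one] at hu
      exact hr.ne_one hu.symm
    refine ⟨hirr, ?_, hcop, ?_, ?_⟩
    · haveI := hcyc
      obtain ⟨⟨_, g, rfl⟩, hg⟩ := IsCyclic.exists_generator (α := φ.range)
      refine ⟨g, g.2, le_antisymm (sup_le (zpowers_le.2 g.2) inf_le_left) fun u hu => ?_⟩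
      obtain ⟨k, hk⟩ := mem_zpowers_iff.1 (hg ⟨φ ⟨u, hu⟩, ⟨_, rfl⟩⟩)
      have h1 : φ ((g ^ k)⁻¹ * ⟨u, hu⟩) = 1 := by
        have h2 := congrArg Subtype.val hk
        simp only [SubgroupClass.coe_zpow] at h2
        rw [map_mul, map_inv, map_zpow, h2, inv_mul_cancel]
      have h3 := mul_mem_sup (S := zpowers (g : L)) (T := C₀)
        (zpow_mem (mem_zpowers (g : L)) k) ((hker _).1 h1)
      simpa using h3
    · refine (Nat.Coprime.dvd_mul_right hcop).1 ?_
      rw [Nat.div_mul_cancel (Nat.sub_one_dvd_pow_sub_one p q), hindex]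
      have : Nat.card (Additive Hb) = p ^ q := (Nat.card_congr Additive.toMul).trans hHbc
      rwa [this] at hdvd
    · intro u hu huC h hhH hfix
      by_contra hh0
      refine huC ((mem_centralizerU hh hnc).2 ⟨hu, ?_⟩)
      let N : Subgroup L :=
        { carrier := {x | x ∈ H ∧ π u * π x * (π u)⁻¹ = π x}
          one_mem' := ⟨one_mem _, by simp⟩
          mul_mem' := fun {a b} ha hb => ⟨mul_mem ha.1 hb.1, by
            rw [map_mul]
            calc π u * (π a * π b) * (π u)⁻¹ = (π u * π a * (π u)⁻¹) * (π u * π b * (π u)⁻¹) := by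
                  group
              _ = π a * π b := by rw [ha.2, hb.2]⟩
          inv_mem' := fun {a} ha => ⟨inv_mem ha.1, by
            rw [map_inv]
            calc π u * (π a)⁻¹ * (π u)⁻¹ = (π u * π a * (π u)⁻¹)⁻¹ := by group
              _ = _ := by rw [ha.2]⟩ }
      have hUN : U ≤ normalizer (N : Set L) := by
        refine Coprime.le_normalizer_of_conj_mem fun v hv x hx => ?_
        refine ⟨hh.H_normal.conj_mem x hx.1 v, ?_⟩
        have hc := congrArg Subtype.val
          (DFunLike.congr_fun (hφcomm ⟨u, hu⟩ ⟨v, hv⟩) ⟨π x, x, hx.1, rfl⟩)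
        simp only [MulAut.mul_apply] at hc
        rw [map_mul, map_mul, map_inv]
        calc π u * (π v * π x * (π v)⁻¹) * (π u)⁻¹
            = π v * (π u * π x * (π u)⁻¹) * (π v)⁻¹ := hc
          _ = _ := by rw [hx.2]
      have hN0 : H₀ ≤ N := fun x hx => ⟨hx.1, by rw [hπ0.2 hx]; group⟩
      have hhN : h ∈ N := ⟨hhH, by rw [← map_mul, ← map_inv, ← map_mul, hπeq]; exact hfix⟩
      rcases hirr N hN0 (fun x hx => hx.1) hUN with hN | hN
      · exact absurd (hN ▸ hhN) hh0
      · intro x hx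
        have h2 := (hN.ge hx).2
        rwa [← map_mul, ← map_inv, ← map_mul, hπeq] at h2
  right
  push Not at hirr
  obtain ⟨N₀, hN₀, hN₀H, hN₀U, hN₀ne, hN₀ne'⟩ := hirr
  obtain ⟨X, hXN, hmin⟩ := Finite.exists_le_minimal
    (p := fun N : Subgroup L => H₀ < N ∧ N ≤ H ∧ U ≤ normalizer (N : Set L)) (a := N₀)
    ⟨lt_of_le_of_ne hN₀ (Ne.symm hN₀ne), hN₀H, hN₀U⟩
  obtain ⟨hX0, hXH, hXU⟩ := hmin.prop
  have hXlt : X < H := lt_of_le_of_lt hXN (lt_of_le_of_ne hN₀H hN₀ne')
  obtain ⟨w₀, hw₀, hw₀1⟩ := hh.exists_w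
  -- the conjugates of `X`
  let Xc : L → Subgroup L := fun t => X.map (MulAut.conj t).toMonoidHom
  have hXc : ∀ {t x : L}, x ∈ Xc t ↔ t⁻¹ * x * t ∈ X := fun {t x} => BGSigma.mem_map_conj
  have hXc_le : ∀ t : L, H₀ ≤ Xc t ∧ Xc t ≤ H := fun t => ⟨fun x hx => hXc.2 (hX0.le (by
      simpa using hn0.conj_mem x hx t⁻¹)), fun x hx => by
      have := hh.H_normal.conj_mem _ (hXH (hXc.1 hx)) t
      simpa [mul_assoc] using this⟩
  have hXc_norm : ∀ t ∈ W₁, U ≤ normalizer ((Xc t : Subgroup L) : Set L) := fun t ht =>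
    Coprime.le_normalizer_of_conj_mem fun u hu x hx => by
      refine hXc.2 ?_
      have hu' : t⁻¹ * u * t ∈ U := (mem_normalizer_iff''.1 (hh.U_norm ht) u).1 hu
      have := (mem_normalizer_iff.1 (hXU hu') _).1 (hXc.1 hx)
      simpa [mul_assoc] using this
  have hXc_min : ∀ t ∈ W₁, ∀ N : Subgroup L, H₀ ≤ N → N ≤ Xc t → U ≤ normalizer (N : Set L) →
      N = H₀ ∨ N = Xc t := by
    intro t ht N hN0 hNX hNU
    set N' := N.map (MulAut.conj t⁻¹).toMonoidHom with hN'
    have hmem : ∀ {x : L}, x ∈ N' ↔ t * x * t⁻¹ ∈ N := fun {x} => by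
      rw [hN', BGSigma.mem_map_conj, inv_inv]
    by_cases hlt : H₀ < N'
    · refine Or.inr (le_antisymm hNX fun x hx => ?_)
      have hN'X : N' ≤ X := fun y hy => by simpa [mul_assoc] using hXc.1 (hNX (hmem.1 hy))
      have hN'U : U ≤ normalizer (N' : Set L) :=
        Coprime.le_normalizer_of_conj_mem fun u hu y hy => hmem.2 (by
          have hu' : t * u * t⁻¹ ∈ U := (mem_normalizer_iff.1 (hh.U_norm ht) u).1 hu
          have := (mem_normalizer_iff.1 (hNU hu') _).1 (hmem.1 hy)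
          simpa [mul_assoc] using this)
      have h1 := hmem.1 (hmin.le_of_le ⟨hlt, hN'X.trans hXH, hN'U⟩ hN'X (hXc.1 hx))
      simpa [mul_assoc] using h1
    · refine Or.inl (le_antisymm (fun x hx => ?_) hN0)
      have h0' : H₀ ≤ N' := fun y hy => hmem.2 (hN0 (hn0.conj_mem y hy t))
      have h1 : t⁻¹ * x * t ∈ H₀ := by
        by_contra hx0
        refine hlt (lt_of_le_of_ne h0' fun he => hx0 (he.ge (hmem.2 ?_)))
        simpa [mul_assoc] using hx
      simpa [mul_assoc] using hn0.conj_mem _ h1 t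
  -- the partial sums
  let Y : ℕ → Subgroup L := fun n =>
    Nat.rec (motive := fun _ => Subgroup L) (H₀) (fun i Z => Z ⊔ Xc (w₀ ^ i)) n
  have hYs : ∀ n, Y (n + 1) = Y n ⊔ Xc (w₀ ^ n) := fun _ => rfl
  have hY : ∀ n, H₀ ≤ Y n ∧ Y n ≤ H ∧ U ≤ normalizer (Y n : Set L) := by
    intro n
    induction n with
    | zero =>
      refine ⟨le_rfl, inf_le_left, ?_⟩
      exact le_top.trans (normalizer_eq_top_iff.2 hn0).ge
    | succ n ih =>
      rw [hYs]
      exact ⟨ih.1.trans le_sup_left, sup_le ih.2.1 (hXc_le _).2,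
        Coprime.le_normalizer_sup ih.2.2 (hXc_norm _ (pow_mem hw₀ n))⟩
  set d := (H₀).relIndex X with hd
  have hcardX : ∀ t, Nat.card (Xc t) = Nat.card ↥(H₀) * d := fun t => by
    rw [BGSigma.card_map_conj, hd, ← Subgroup.relIndex_bot_left, ← Subgroup.relIndex_bot_left,
      Subgroup.relIndex_mul_relIndex _ _ _ bot_le hX0.le]
  have hcardY : ∀ n, ∃ k ≤ n, Nat.card (Y n) = Nat.card ↥(H₀) * d ^ k := by
    intro n
    induction n with
    | zero => exact ⟨0, le_rfl, by rw [pow_zero, mul_one]; rfl⟩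
    | succ n ih =>
      obtain ⟨k, hk, hc⟩ := ih
      obtain ⟨h0, hH, hU⟩ := hY n
      have hw := pow_mem hw₀ n
      rcases hXc_min _ hw (Y n ⊓ Xc (w₀ ^ n)) (le_inf h0 (hXc_le _).1) inf_le_right
        (Coprime.le_normalizer_inf hU (hXc_norm _ hw)) with h1 | h1
      · refine ⟨k + 1, by omega, Nat.eq_of_mul_eq_mul_right (Nat.card_pos (α := ↥(H₀))) ?_⟩
        have h2 := Thompson.card_sup_mul_card_inf (H := Y n) (K := Xc (w₀ ^ n))
          ((hXc_le _).2.trans (H_le_normalizer hh hnc h0 hH))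
        rw [h1, ← hYs, hc, hcardX] at h2
        rw [h2]; ring
      · refine ⟨k, by omega, ?_⟩
        rw [hYs, sup_eq_left.2 (inf_eq_right.1 h1)]
        exact hc
  have hwq : w₀ ^ q = 1 := by
    rw [← hh.card_W₁]
    exact congrArg Subtype.val (pow_card_eq_one' (x := (⟨w₀, hw₀⟩ : W₁)))
  have hle : ∀ i < q, Xc (w₀ ^ i) ≤ Y q := by
    have : ∀ n, ∀ i < n, Xc (w₀ ^ i) ≤ Y n := by
      intro n
      induction n with
      | zero => exact fun i hi => absurd hi (Nat.not_lt_zero _)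
      | succ n ih =>
        intro i hi
        rw [hYs]
        rcases Nat.lt_succ_iff_lt_or_eq.1 hi with h | h
        · exact (ih i h).trans le_sup_left
        · subst h; exact le_sup_right
    exact this q
  have hYmin : ∀ N : Subgroup L, H₀ ≤ N → (∀ i < q, Xc (w₀ ^ i) ≤ N) → Y q ≤ N := by
    intro N hN0 hN
    have : ∀ n ≤ q, Y n ≤ N := by
      intro n
      induction n with
      | zero => exact fun _ => hN0
      | succ n ih => exact fun hn => hYs n ▸ sup_le (ih (by omega)) (hN n (by omega))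
    exact this q le_rfl
  have hYnormal : (Y q).Normal := by
    have hw : w₀ ∈ normalizer (Y q : Set L) := by
      rw [mem_normalizer_iff_map_conj_eq]
      refine eq_of_le_of_card_ge ?_ (BGSigma.card_map_conj (Y q) w₀).ge
      rw [Subgroup.map_le_iff_le_comap]
      refine hYmin _ ?_ fun i hi => ?_
      · exact fun x hx => (hY q).1 (hn0.conj_mem x hx w₀)
      · intro x hx
        rcases Nat.lt_succ_iff_lt_or_eq.1 (Nat.succ_lt_succ hi : i + 1 < q + 1) with h | h
        · refine hle (i + 1) h (hXc.2 ?_)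
          have := hXc.1 hx
          show (w₀ ^ (i + 1))⁻¹ * (w₀ * x * w₀⁻¹) * w₀ ^ (i + 1) ∈ X
          rw [pow_succ']
          simpa [mul_assoc] using this
        · refine hle 0 hh.hq.pos (hXc.2 ?_)
          have := hXc.1 hx
          show (w₀ ^ 0)⁻¹ * (w₀ * x * w₀⁻¹) * w₀ ^ 0 ∈ X
          have e : w₀ ^ i = w₀⁻¹ := eq_inv_of_mul_eq_one_left (by rw [← pow_succ, show i + 1 = q by omega, hwq])
          rw [e, inv_inv] at this
          simpa using this
    have hW : W₁ ≤ normalizer (Y q : Set L) := by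
      haveI : Fact (Nat.card W₁).Prime := ⟨hh.card_W₁ ▸ hh.hq⟩
      intro x hx
      obtain ⟨k, hk⟩ := mem_zpowers_iff.1 (mem_zpowers_of_prime_card (G := W₁) rfl
        (g := ⟨w₀, hw₀⟩) (g' := ⟨x, hx⟩) fun h0 => hw₀1 (congrArg Subtype.val h0))
      rw [show x = w₀ ^ k from (congrArg Subtype.val hk).symm.trans (SubgroupClass.coe_zpow _ _)]
      exact zpow_mem hw k
    rw [← normalizer_eq_top_iff, eq_top_iff, ← hh.K_sup, ← hh.HU]
    exact sup_le (sup_le (H_le_normalizer hh hnc (hY q).1 (hY q).2.1) (hY q).2.2) hW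
  have hYH : Y q = H := by
    refine (chief hh hnc (Y q) (hY q).1 (hY q).2.1).resolve_left fun h0 => hX0.not_ge ?_
    intro x hx
    refine h0.le (hle 0 hh.hq.pos (hXc.2 ?_))
    simpa using hx
  obtain ⟨k, hk, hcY⟩ := hcardY q
  have hcardH : Nat.card H = Nat.card ↥(H₀) * p ^ q := by
    rw [← relIndex_H₀ hh hnc, ← Subgroup.relIndex_bot_left, ← Subgroup.relIndex_bot_left,
      Subgroup.relIndex_mul_relIndex _ _ _ bot_le inf_le_left]
  have hdk : d ^ k = p ^ q := by
    rw [hYH, hcardH] at hcY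
    exact (Nat.eq_of_mul_eq_mul_left Nat.card_pos hcY).symm
  obtain ⟨a, -, ha⟩ := (Nat.dvd_prime_pow hh.hp).1
    (show d ∣ p ^ q from relIndex_H₀ hh hnc ▸ Dvd.intro _
      (Subgroup.relIndex_mul_relIndex _ _ _ hX0.le hXH))
  have hak : a * k = q := by
    rw [ha, ← pow_mul] at hdk
    exact Nat.pow_right_injective hh.hp.two_le hdk
  have hd1 : d = p := by
    rcases hh.hq.eq_one_or_self_of_dvd a (Dvd.intro k hak) with h | h
    · rw [ha, h, pow_one]
    · exfalso
      subst h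
      refine hXlt.ne (eq_of_le_of_card_ge hXH ?_)
      have := hcardX 1
      rw [show Xc 1 = X from BGSigma.map_conj_one X, ha] at this
      rw [this, hcardH]
  -- the action on the lines
  have hline : ∀ i : ℕ, Nat.card ((Xc (w₀ ^ i)).map π) = p := fun i => by
    rw [← Subgroup.relIndex_ker, hπ, QuotientGroup.ker_mk']
    refine Nat.eq_of_mul_eq_mul_left (Nat.card_pos (α := ↥(H₀))) ?_
    rw [← hd1, ← hcardX (w₀ ^ i), ← Subgroup.relIndex_bot_left, ← Subgroup.relIndex_bot_left,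
      Subgroup.relIndex_mul_relIndex _ _ _ bot_le (hXc_le _).1]
  have hfull : ∀ u ∈ U,
      (∀ i < q, ∀ x ∈ Xc (w₀ ^ i), π u * π x * (π u)⁻¹ = π x) → u ∈ C₀ := by
    intro u hu hfix
    refine (mem_centralizerU hh hnc).2 ⟨hu, ?_⟩
    let N : Subgroup L :=
      { carrier := {x | π u * π x * (π u)⁻¹ = π x}
        one_mem' := by simp
        mul_mem' := fun {a b} (ha : _ = _) (hb : _ = _) => by
          show π u * π (a * b) * (π u)⁻¹ = π (a * b)
          rw [map_mul]
          calc π u * (π a * π b) * (π u)⁻¹ = (π u * π a * (π u)⁻¹) * (π u * π b * (π u)⁻¹) := by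
                group
            _ = π a * π b := by rw [ha, hb]
        inv_mem' := fun {a} (ha : _ = _) => by
          show π u * π a⁻¹ * (π u)⁻¹ = π a⁻¹
          rw [map_inv]
          calc π u * (π a)⁻¹ * (π u)⁻¹ = (π u * π a * (π u)⁻¹)⁻¹ := by group
            _ = _ := by rw [ha] }
    intro h hhH
    have h1 : π u * π h * (π u)⁻¹ = π h := hYmin N (fun x hx => by
      show _ = _
      rw [hπ0.2 hx]; group) (fun i hi x hx => hfix i hi x hx) (hYH.ge hhH)
    rw [← hπeq, map_mul, map_mul, map_inv]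
    exact h1
  have hπnorm : ∀ u ∈ U, ∀ i : ℕ, π u ∈ normalizer ((Xc (w₀ ^ i)).map π : Set (L ⧸ H₀)) :=
    fun u hu i => le_normalizer_map π ⟨u, hXc_norm _ (pow_mem hw₀ i) hu, rfl⟩
  refine ⟨X, hX0.le, hXH, hd1, hXU, fun w hw hw1 N hN => ?_, fun u hu => ?_, ?_, ?_⟩
  · -- the conjugates by the powers of any generator
    haveI : Fact q.Prime := ⟨hh.hq⟩
    have h0N : H₀ ≤ N := fun x hx => hN 0 hh.hq.pos (by
      rw [pow_zero, BGSigma.map_conj_one]; exact hX0.le hx)
    refine hYH.ge.trans (hYmin N h0N fun i hi => ?_)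
    obtain ⟨j, hj⟩ := mem_powers_of_prime_card (G := W₁) hh.card_W₁
      (g := ⟨w, hw⟩) (g' := ⟨w₀ ^ i, pow_mem hw₀ i⟩) fun h0 => hw1 (congrArg Subtype.val h0)
    have hwq' : w ^ q = 1 := by
      rw [← hh.card_W₁]
      exact congrArg Subtype.val (pow_card_eq_one' (x := (⟨w, hw⟩ : W₁)))
    have e : w₀ ^ i = w ^ (j % q) := by
      rw [← pow_eq_pow_mod j hwq']
      exact (congrArg Subtype.val hj).symm
    show X.map (MulAut.conj (w₀ ^ i)).toMonoidHom ≤ N
    rw [e]
    exact hN _ (Nat.mod_lt j hh.hq.pos)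
  · refine hfull _ (pow_mem hu _) fun i _ x hx => ?_
    rw [map_pow]
    exact line_fix (hline i) (hπnorm u hu i) ⟨x, hx, rfl⟩
  · let Φ : U →* ((i : Fin q) → MulAut ((Xc (w₀ ^ (i : ℕ))).map π)) :=
      MonoidHom.mk' (fun u i => ((Xc (w₀ ^ (i : ℕ))).map π).normalizerMonoidHom
        ⟨π u, hπnorm u u.2 i⟩) fun u v => funext fun i => by
          rw [Pi.mul_apply, ← map_mul]
          congr 1
    have hΦ : Φ.ker = (C₀).subgroupOf U := by
      ext u
      rw [MonoidHom.mem_ker, mem_subgroupOf]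
      constructor
      · intro he
        refine hfull u u.2 fun i hi x hx => ?_
        exact congrArg Subtype.val (DFunLike.congr_fun (congrFun he ⟨i, hi⟩) ⟨π x, x, hx, rfl⟩)
      · intro hu
        funext i
        refine MulEquiv.ext ?_
        rintro ⟨_, x, hx, rfl⟩
        refine Subtype.ext (show π u * π x * (π u)⁻¹ = π x from ?_)
        rw [← map_mul, ← map_inv, ← map_mul, hπeq]
        exact ((mem_centralizerU hh hnc).1 hu).2 x ((hXc_le _).2 hx)
    have h1 : Φ.ker.index ∣ Nat.card ((i : Fin q) → MulAut ((Xc (w₀ ^ (i : ℕ))).map π)) :=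
      Subgroup.index_ker Φ ▸ Subgroup.card_subgroup_dvd_card _
    rw [hΦ, Nat.card_pi] at h1
    rw [Subgroup.relIndex]
    refine h1.trans (dvd_of_eq ?_)
    rw [Finset.prod_congr rfl fun i _ => ?_, Finset.prod_const, Finset.card_univ, Fintype.card_fin]
    haveI : IsCyclic ((Xc (w₀ ^ (i : ℕ))).map π) := isCyclic_of_prime_card (hline i)
    rw [IsCyclic.card_mulAut, hline, Nat.totient_prime hh.hp]
  · by_contra hno
    push Not at hno
    refine hnc fun u hu => (hfull u hu fun i _ x hx => ?_).2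
    set t := w₀ ^ i
    have ht : t ∈ W₁ := pow_mem hw₀ i
    have h1 := hno (t⁻¹ * u * t) ((mem_normalizer_iff''.1 (hh.U_norm ht) u).1 hu) _ (hXc.1 hx)
    have h2 := hn0.conj_mem _ h1 t
    rw [← map_mul, ← map_inv, ← map_mul, hπeq]
    convert h2 using 1
    group

end Cfsg.Agent.PF9
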