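import Cfsg.Agent.PF8.TypeIIISetup
import Cfsg.Agent.BGSummary.FittingHallLayers
import Cfsg.Agent.PF9.Galois

/-!
# Peterfalvi §9 for a maximal subgroup of type II, III or IV
-/

set_option autoImplicit false
set_option linter.unusedSectionVars false
set_option linter.style.haveILetI false

namespace Cfsg.Agent.PF9

open Cfsg
open scoped Pointwise commutatorElement

universe u

variable {G : Type u} [Group G] [Finite G] (hG : IsMinSimpleOddOrder G)
include hG

/-- Hypothesis (9.1) in `M`, given that `|W₁|` and `|W₂|` are primes. -/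
theorem groupHyp {M W₁ U W₂ : Subgroup G} (hM : IsCoatom M) (hP : IsTypePWith M W₁ U W₂)
    (hq : (Nat.card W₁).Prime) (hp : (Nat.card W₂).Prime) :
    OddLocal44.PF11.GroupHyp ((⁅M, M⁆ : Subgroup G).subgroupOf M) (fittingHall M)
      (U.subgroupOf M) (W₁.subgroupOf M) (W₂.subgroupOf M) (Nat.card W₂) (Nat.card W₁) := by
  obtain ⟨hdM, hWM, hdW, -⟩ := hP.W₁_compl
  obtain ⟨hFd, hUd, hFU, hmul⟩ := hP.U_compl
  have hUM := hUd.trans hdM
  have hW₂F : W₂ ≤ fittingHallOf M := hP.W₂_le.trans inf_le_left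
  have hW₂M : W₂ ≤ M := (hW₂F.trans hFd).trans hdM
  have hFeq : (fittingHallOf M).subgroupOf M = fittingHall M :=
    Subgroup.comap_map_eq_self_of_injective M.subtype_injective _
  have hti := PF8.primeTI hG hM hP
  refine
    { odd := BGSigma.odd_card_subgroup hG M
      solvable := ?_
      K_normal := hti.normal
      H_normal := fittingHall_normal M
      H_nil := BGUniq.fittingHall_isNilpotent M
      H_hall := BGUniq.fittingHall_coprime M
      HU := ?_
      H_inf_U := ?_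
      U_nil := ?_
      U_norm := ?_
      K_inf := hti.inf
      K_sup := hti.sup
      hq := hq
      hp := hp
      hpq := fun he => hq.ne_one (by
        have := PF8.coprime_W hG hM hP
        rw [he] at this
        exact (Nat.coprime_self _).mp this)
      card_W₁ := Nat.card_congr (Subgroup.subgroupOfEquivOfLe hWM).toEquiv
      card_W₂ := Nat.card_congr (Subgroup.subgroupOfEquivOfLe hW₂M).toEquiv
      W₂_le := fun x hx => hFeq.le (hW₂F hx)
      W₂_le' := ?_
      cent := hti.cent }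
  · haveI := BGSigma.coatom_isSolvable hG hM
    infer_instance
  · refine le_antisymm (sup_le (fun x hx => ?_) (fun x hx => hUd hx)) fun x hx => ?_
    · rw [← hFeq] at hx
      exact hFd hx
    · obtain ⟨a, ha, b, hb, hab⟩ := hmul x hx
      have e : x = (⟨a, (hFd.trans hdM) ha⟩ : M) * ⟨b, hUM hb⟩ := Subtype.ext hab
      rw [e]
      exact Subgroup.mul_mem_sup (hFeq.le ha) hb
  · refine (Subgroup.eq_bot_iff_forall _).mpr fun x hx => Subtype.ext ?_
    rw [← hFeq] at hx
    exact Subgroup.mem_bot.mp (hFU.le ⟨hx.1, hx.2⟩)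
  · haveI := hP.U_nilpotent
    exact Group.nilpotent_of_mulEquiv (Subgroup.subgroupOfEquivOfLe hUM).symm
  · intro x hx
    rw [Subgroup.mem_normalizer_iff]
    intro z
    simp only [Subgroup.mem_subgroupOf, Subgroup.coe_mul, Subgroup.coe_inv]
    exact Subgroup.mem_normalizer_iff.mp (hP.U_normal hx) z
  · intro x hx
    have h1 : (x : G) ∈ (⁅⁅M, M⁆, ⁅M, M⁆⁆ : Subgroup G) := (hP.W₂_le hx).2
    have h2 : (⁅(⁅M, M⁆ : Subgroup G).subgroupOf M, (⁅M, M⁆ : Subgroup G).subgroupOf M⁆).map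
        M.subtype = ⁅⁅M, M⁆, ⁅M, M⁆⁆ := by
      rw [Subgroup.map_commutator, Subgroup.map_subgroupOf_eq_of_le hdM]
    obtain ⟨y, hy, hyx⟩ := h2.symm.le h1
    exact Subtype.ext hyx ▸ hy

/-- `|W₂|` is a prime when the partner is not of Type V. -/
theorem prime_W₂_of_no_typeV (hV : ∀ S : Subgroup G, IsCoatom S → ¬ IsOfTypeV S) {M W₁ U W₂ : Subgroup G} (hM : IsCoatom M) (hP : IsTypePWith M W₁ U W₂) :
    (Nat.card W₂).Prime := by
  obtain ⟨S, V, hS, hS', -, -, -⟩ := PF8.exists_partner hG hM hP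
  obtain ⟨⟨U₀, hKU⟩, -, -⟩ := PF8.decomp_of_typePWith hG hS hS'
  refine PF8.prime_W₁ hG hS hS' ?_
  rcases BGSummary.typeP_cases (PF8.summaryInputs hG) hS hKU hS'.W₁_ne with h | h | h | h
  · exact Or.inl h
  · exact Or.inr (Or.inl h)
  · exact Or.inr (Or.inr h)
  · exact absurd h (hV S hS)

/-- `U` does not centralize `M_F`. -/
theorem not_centralizes {M W₁ U W₂ : Subgroup G} (hM : IsCoatom M) (hP : IsTypePWith M W₁ U W₂)
    (hU : U ≠ ⊥) :
    ¬ U.subgroupOf M ≤ Subgroup.centralizer ((fittingHall M : Subgroup M) : Set M) := by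
  intro hc
  obtain ⟨hdM, -, -, -⟩ := hP.W₁_compl
  have hFM := BGUniq.fittingHallOf_le M
  have hUd := hP.U_compl.2.1
  have hcomm : ∀ a ∈ fittingHallOf M, ∀ b ∈ U, a * b = b * a := by
    rintro _ ⟨a, ha, rfl⟩ b hb
    exact congrArg Subtype.val
      (Subgroup.mem_centralizer_iff.mp (hc (x := ⟨b, hdM (hUd hb)⟩) hb) a ha)
  have hFn : Group.IsNilpotent ↥(fittingHallOf M) :=
    Fitting.isNilpotent_map _ (BGUniq.fittingHall_isNilpotent ↥M)
  haveI hUn := hP.U_nilpotent
  have hsup := BGSummary.TypeCore.sup_eq hP.U_compl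
  have hnil : Group.IsNilpotent ↥(⁅M, M⁆ : Subgroup G) := by
    rw [← hsup]
    exact BGSummary.Loc.isNilpotent_sup_of_commute hFn hUn hcomm
  have hn := Coprime.le_normalizer_commutator_left M M
  have hidx : (Nat.card (⁅M, M⁆ : Subgroup G)).Coprime ((⁅M, M⁆ : Subgroup G).relIndex M) := by
    rw [BGSummary.card_eq_of_complIn hP.W₁_compl hn]
    obtain ⟨⟨U₀, hKU⟩, -, -⟩ := PF8.decomp_of_typePWith hG hM hP
    have h1 : Nat.card W₁ * W₁.relIndex M =
        Nat.card (⁅M, M⁆ : Subgroup G) * (⁅M, M⁆ : Subgroup G).relIndex M := by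
      rw [← Subgroup.relIndex_bot_left, ← Subgroup.relIndex_bot_left,
        Subgroup.relIndex_mul_relIndex _ _ _ bot_le hP.W₁_compl.2.1,
        Subgroup.relIndex_mul_relIndex _ _ _ bot_le hdM]
    rw [BGSummary.card_eq_of_complIn hP.W₁_compl hn, mul_comm (Nat.card W₁)] at h1
    rw [← Nat.eq_of_mul_eq_mul_right Nat.card_pos h1]
    exact hP.W₁_hall.symm
  have hle := BGSummary.le_fittingHallOf hdM hn hnil hidx
  exact hU (le_bot_iff.mp fun u hu => hP.U_compl.2.2.1.le ⟨hle (hUd hu), hu⟩)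

/-- `U / C` is abelian. -/
theorem derived_le_centralizer {M W₁ U W₂ : Subgroup G} (hM : IsCoatom M)
    (hP : IsTypePWith M W₁ U W₂) (hU : U ≠ ⊥) (hq : (Nat.card W₁).Prime)
    (hp : (Nat.card W₂).Prime) :
    ⁅U.subgroupOf M, U.subgroupOf M⁆ ≤
      U.subgroupOf M ⊓ Subgroup.centralizer ((fittingHall M : Subgroup M) : Set M) := by
  have hh := groupHyp hG hM hP hq hp
  have hnc := not_centralizes hG hM hP hU
  refine Subgroup.commutator_le.mpr fun a ha b hb => (mem_centralizerU hh hnc).mpr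
    ⟨Subgroup.commutator_le_self _ (Subgroup.commutator_mem_commutator ha hb), fun h hhH => ?_⟩
  have hd := hP.U_compl.2.1
  have hmem : ((⁅a, b⁆ : M) : G) ∈ fittingHallOf M ⊔ (M ⊓ Subgroup.centralizer (fittingHallOf M : Set G)) :=
    hP.derived_two_le (Subgroup.commutator_mem_commutator (hd ha) (hd hb))
  have hMn : M ⊓ Subgroup.centralizer (fittingHallOf M : Set G) ≤
      Subgroup.normalizer (fittingHallOf M : Set G) :=
    inf_le_left.trans (BGSummary.le_normalizer_fittingHallOf M)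
  obtain ⟨y, hy, c, hc, he⟩ := Coprime.exists_mul_of_mem_sup hMn hmem
  obtain ⟨y', hy', rfl⟩ := hy
  have hch : c * (h : G) = h * c :=
    (Subgroup.mem_centralizer_iff.mp hc.2 (h : G) ⟨h, hhH, rfl⟩).symm
  have h1 : ⁅a, b⁆ * h * ⁅a, b⁆⁻¹ * h⁻¹ = ⁅y', h⁆ := by
    refine Subtype.ext ?_
    simp only [Subgroup.coe_mul, Subgroup.coe_inv]
    rw [he]
    show (y' : G) * c * h * ((y' : G) * c)⁻¹ * (h : G)⁻¹ = ((⁅y', h⁆ : M) : G)
    rw [mul_assoc (y' : G) c, hch, commutatorElement_def]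
    simp only [Subgroup.coe_mul, Subgroup.coe_inv]
    group
  rw [h1]
  exact commutator_le_H₀ hh hnc (Subgroup.commutator_mem_commutator hy' hhH)

/-- Peterfalvi (9.6) for `M`. -/
theorem chiefHyp_of_typeP {M W₁ U W₂ : Subgroup G} (hM : IsCoatom M)
    (hP : IsTypePWith M W₁ U W₂) (hU : U ≠ ⊥) (hq : (Nat.card W₁).Prime)
    (hp : (Nat.card W₂).Prime) :
    OddLocal44.PF11.ChiefHyp (fittingHall M) (U.subgroupOf M) (W₂.subgroupOf M)
      (fittingHall M ⊓ Subgroup.centralizer ((U.subgroupOf M : Subgroup M) : Set M))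
      (U.subgroupOf M ⊓ Subgroup.centralizer ((fittingHall M : Subgroup M) : Set M))
      (Nat.card W₂) (Nat.card W₁) :=
  chiefHyp (groupHyp hG hM hP hq hp) (not_centralizes hG hM hP hU)

/-- Peterfalvi (9.7) for `M`. -/
theorem dichotomy_of_typeP {M W₁ U W₂ : Subgroup G} (hM : IsCoatom M)
    (hP : IsTypePWith M W₁ U W₂) (hU : U ≠ ⊥) (hq : (Nat.card W₁).Prime)
    (hp : (Nat.card W₂).Prime) :
    GaloisCase (fittingHall M) (U.subgroupOf M)
      (fittingHall M ⊓ Subgroup.centralizer ((U.subgroupOf M : Subgroup M) : Set M))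
      (U.subgroupOf M ⊓ Subgroup.centralizer ((fittingHall M : Subgroup M) : Set M))
      (Nat.card W₂) (Nat.card W₁) ∨
    ∃ X : Subgroup M, LineCase (fittingHall M) (U.subgroupOf M) (W₁.subgroupOf M)
      (fittingHall M ⊓ Subgroup.centralizer ((U.subgroupOf M : Subgroup M) : Set M))
      (U.subgroupOf M ⊓ Subgroup.centralizer ((fittingHall M : Subgroup M) : Set M))
      X (Nat.card W₂) (Nat.card W₁) :=
  dichotomy (groupHyp hG hM hP hq hp) (not_centralizes hG hM hP hU)
    (derived_le_centralizer hG hM hP hU hq hp)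

end Cfsg.Agent.PF9
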