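import Cfsg.Agent.OddLocal44.PF11.Structure
import Cfsg.Agent.OddLocal43.FrobeniusAction

set_option autoImplicit false

/-!
Peterfalvi (9.6): the chief factor `H / H₀` of a maximal subgroup of type II, III or IV and the
centraliser `C` of it in `U`.
-/

open scoped commutatorElement

namespace Cfsg.Agent.PF9

open Cfsg Cfsg.Agent
open Cfsg.Agent.OddLocal44.PF11 (GroupHyp ChiefHyp)

universe u

variable {L : Type u} [Group L] {K H U W₁ W₂ : Subgroup L} {p q : ℕ}

/-- The conclusion of (9.6), with the minimality of `H / H₀` and the nontriviality and commutativity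
of `U / C`. -/
structure Chief (H U W₂ H₀ C : Subgroup L) (p q : ℕ) : Prop
    extends ChiefHyp H U W₂ H₀ C p q where
  minimal : ∀ N : Subgroup L, N.Normal → H₀ ≤ N → N ≤ H → N = H₀ ∨ N = H
  C_ne : C ≠ U
  U_ne : U ≠ ⊥
  comm_U : ⁅U, U⁆ ≤ C

/-- `C_U(H / H₀)`. -/
def centU (H U H₀ : Subgroup L) [H₀.Normal] : Subgroup L :=
  U ⊓ (Subgroup.centralizer
    ((H.map (QuotientGroup.mk' H₀) : Subgroup (L ⧸ H₀)) : Set (L ⧸ H₀))).comap (QuotientGroup.mk' H₀)

theorem mk_comm_iff (N : Subgroup L) [N.Normal] (x h : L) :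
    QuotientGroup.mk' N x * QuotientGroup.mk' N h = QuotientGroup.mk' N h * QuotientGroup.mk' N x ↔
      x * h * x⁻¹ * h⁻¹ ∈ N := by
  rw [← QuotientGroup.eq_one_iff]
  show _ ↔ QuotientGroup.mk' N (x * h * x⁻¹ * h⁻¹) = 1
  simp only [map_mul, map_inv]
  rw [mul_inv_eq_one, mul_inv_eq_iff_eq_mul]

theorem mem_centU {H U H₀ : Subgroup L} [H₀.Normal] (x : L) :
    x ∈ centU H U H₀ ↔ x ∈ U ∧ ∀ h ∈ H, x * h * x⁻¹ * h⁻¹ ∈ H₀ := by
  rw [centU, Subgroup.mem_inf, Subgroup.mem_comap, Subgroup.mem_centralizer_iff]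
  refine and_congr_right fun _ => ⟨fun h a ha => ?_, fun h => ?_⟩
  · exact (mk_comm_iff H₀ x a).1 (h _ ⟨a, ha, rfl⟩).symm
  · rintro _ ⟨a, ha, rfl⟩
    exact ((mk_comm_iff H₀ x a).2 (h a ha)).symm

variable [Finite L]

/-- Peterfalvi (9.6). -/
theorem exists_chief (hG : GroupHyp K H U W₁ W₂ p q)
    (hUH : ¬ H ≤ Subgroup.centralizer (U : Set L)) : ∃ H₀ C, Chief H U W₂ H₀ C p q := by
  have := hG.H_normal
  have := hG.H_nil
  have hU1 : U ≠ ⊥ := by
    rintro rfl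
    exact hUH fun h _ => Subgroup.mem_centralizer_iff.2 fun x hx => by
      rw [Subgroup.mem_bot.1 hx, one_mul, mul_one]
  -- a normal subgroup between `⁅H, H⁆` and `H`
  set B := (H ⊓ Subgroup.centralizer (U : Set L)) ⊔ ⁅H, H⁆ with hB
  have hBH : B ≤ H := sup_le inf_le_left (Subgroup.commutator_le_self H)
  have : B.Normal := by
    rw [← Subgroup.normalizer_eq_top_iff, eq_top_iff, ← hG.K_sup, ← hG.HU]
    have hX : ∀ X : Subgroup L, X ≤ Subgroup.normalizer (U : Set L) →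
        X ≤ Subgroup.normalizer (B : Set L) := fun X hX => Coprime.le_normalizer_sup
      (Coprime.le_normalizer_inf (le_top.trans (Subgroup.normalizer_eq_top_iff.2 hG.H_normal).ge)
        (Coprime.le_normalizer_centralizer hX))
      (le_top.trans (Subgroup.normalizer_eq_top_iff.2 inferInstance).ge)
    refine sup_le (sup_le ?_ (hX U Subgroup.le_normalizer)) (hX W₁ hG.U_norm)
    refine Coprime.le_normalizer_of_conj_mem fun h hh b hb => ?_
    have := B.mul_mem (Subgroup.mem_sup_right (Subgroup.commutator_mem_commutator hh (hBH hb)) :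
      ⁅h, b⁆ ∈ B) hb
    rwa [commutatorElement_def, inv_mul_cancel_right] at this
  have hBlt : B < H := by
    refine lt_of_le_of_ne hBH fun he => hUH ?_
    have htop := OddLocal44.PF11.eq_top_of_sup_commutator hG.H_nil
      ((H ⊓ Subgroup.centralizer (U : Set L)).subgroupOf H) (by
        apply Subgroup.map_injective H.subtype_injective
        rw [Subgroup.map_sup, Subgroup.map_subgroupOf_eq_of_le inf_le_left, commutator_def,
          Subgroup.map_commutator, ← MonoidHom.range_eq_map, Subgroup.range_subtype]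
        exact he)
    exact (Subgroup.subgroupOf_eq_top.1 htop).trans inf_le_right
  obtain ⟨H₀, hBH₀, hmax⟩ := Finite.exists_le_maximal
    (p := fun N : Subgroup L => N.Normal ∧ N < H) (a := B) ⟨inferInstance, hBlt⟩
  obtain ⟨hn₀, hlt⟩ := hmax.1
  have := hn₀
  have hmin : ∀ N : Subgroup L, N.Normal → H₀ ≤ N → N ≤ H → N = H₀ ∨ N = H := fun N hN h1 h2 => by
    rcases eq_or_lt_of_le h2 with e | e
    · exact Or.inr e
    · exact Or.inl (le_antisymm (hmax.2 ⟨hN, e⟩ h1) h1)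
  set π := QuotientGroup.mk' H₀ with hπ
  set V := H.map π with hV
  have hker : ∀ {x : L}, π x = 1 ↔ x ∈ H₀ := fun {x} => QuotientGroup.eq_one_iff x
  have hVab : IsMulCommutative V := ⟨⟨by
    rintro ⟨_, a, ha, rfl⟩ ⟨_, b, hb, rfl⟩
    refine Subtype.ext ((mk_comm_iff H₀ a b).2 (hBH₀ (Subgroup.mem_sup_right ?_)))
    exact Subgroup.commutator_mem_commutator ha hb⟩⟩
  have hV1 : V ≠ ⊥ := fun h => hlt.not_ge fun x hx => hker.1 (Subgroup.mem_bot.1
    (h ▸ Subgroup.mem_map_of_mem π hx))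
  -- the exponent of `H / H₀`
  obtain ⟨r, hr, hrV⟩ : ∃ r, r.Prime ∧ r ∣ Nat.card V :=
    Nat.exists_prime_and_dvd fun h => hV1 (Subgroup.eq_bot_of_card_eq _ h)
  have : Fact r.Prime := ⟨hr⟩
  have hVr : ∀ x ∈ H, x ^ r ∈ H₀ := by
    have := hVab
    let N : Subgroup L :=
      { carrier := {x | x ∈ H ∧ π x ^ r = 1}
        one_mem' := ⟨H.one_mem, by simp⟩
        mul_mem' := by
          rintro a b ⟨ha, ha'⟩ ⟨hb, hb'⟩
          refine ⟨H.mul_mem ha hb, ?_⟩
          have hc : Commute (π a) (π b) := congrArg Subtype.val (hVab.is_comm.comm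
            ⟨_, Subgroup.mem_map_of_mem π ha⟩ ⟨_, Subgroup.mem_map_of_mem π hb⟩)
          rw [map_mul, hc.mul_pow, ha', hb', one_mul]
        inv_mem' := by
          rintro a ⟨ha, ha'⟩
          exact ⟨H.inv_mem ha, by rw [map_inv, inv_pow, ha', inv_one]⟩ }
    have hN : N.Normal := ⟨fun a ha g => ⟨hG.H_normal.conj_mem a ha.1 g, by
      rw [map_mul, map_mul, map_inv, conj_pow, ha.2, mul_one, mul_inv_cancel]⟩⟩
    have h₀ : H₀ ≤ N := fun a ha => ⟨hlt.le ha, by rw [hker.2 ha, one_pow]⟩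
    rcases hmin N hN h₀ (fun a ha => ha.1) with e | e
    · obtain ⟨v, hv⟩ := exists_prime_orderOf_dvd_card' r hrV
      obtain ⟨a, ha, hav⟩ := v.2
      have : a ∈ H₀ := e ▸ (⟨ha, by
        rw [hav, ← SubmonoidClass.coe_pow, ← hv, pow_orderOf_eq_one]; rfl⟩ : a ∈ N)
      have hv1 : v = 1 := Subtype.ext (hav.symm.trans (hker.2 this))
      rw [hv1, orderOf_one] at hv
      exact absurd hv.symm hr.ne_one
    · intro x hx
      have := (e.symm ▸ hx : x ∈ N).2
      rwa [← map_pow, hker] at this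
  have hVe : Cfsg.IsElementaryAbelian r V := ⟨hVab, by
    rintro _ ⟨a, ha, rfl⟩
    rw [← map_pow, hker]
    exact hVr a ha⟩
  -- fixed points lift
  have hlift : ∀ A : Subgroup L, A ≤ U ⊔ W₁ → ∀ v ∈ V,
      v ∈ Subgroup.centralizer ((A.map π : Subgroup (L ⧸ H₀)) : Set (L ⧸ H₀)) →
      ∃ h ∈ H, h ∈ Subgroup.centralizer (A : Set L) ∧ π h = v := by
    rintro A hA _ ⟨h, hh, rfl⟩ hv
    obtain ⟨n, hn, hc⟩ := Coprime.exists_fixed_in_coset_of_normal A H₀
      (le_top.trans (Subgroup.normalizer_eq_top_iff.2 hn₀).ge)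
      ((hG.coprime_compl.coprime_dvd_left (Subgroup.card_dvd_of_le hlt.le)).symm.coprime_dvd_left
        (Subgroup.card_dvd_of_le hA))
      (Or.inr (Group.isSolvable_of_isSolvable_injective (Subgroup.inclusion_injective hlt.le)))
      h ((Subgroup.normalizer_eq_top_iff.2 hn₀).symm ▸ Subgroup.mem_top h)
      (fun a ha => (mk_comm_iff H₀ a h).1
        (Subgroup.mem_centralizer_iff.1 hv _ ⟨a, ha, rfl⟩))
    exact ⟨h * n, H.mul_mem hh (hlt.le hn), hc, by rw [map_mul, hker.2 hn, mul_one]⟩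
  have hCU : V ⊓ Subgroup.centralizer ((U.map π : Subgroup (L ⧸ H₀)) : Set (L ⧸ H₀)) = ⊥ := by
    rw [eq_bot_iff]
    rintro v ⟨hv, hv'⟩
    obtain ⟨h, hh, hc, rfl⟩ := hlift U le_sup_left v hv hv'
    exact Subgroup.mem_bot.2 (hker.2 (hBH₀ (Subgroup.mem_sup_left ⟨hh, hc⟩)))
  have hCW : V ⊓ Subgroup.centralizer ((W₁.map π : Subgroup (L ⧸ H₀)) : Set (L ⧸ H₀)) = W₂.map π := by
    obtain ⟨w, hw, hw1⟩ := hG.exists_w
    refine le_antisymm ?_ (le_inf (Subgroup.map_mono hG.W₂_le) ?_)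
    · rintro v ⟨hv, hv'⟩
      obtain ⟨h, hh, hc, rfl⟩ := hlift W₁ le_sup_right v hv hv'
      refine Subgroup.mem_map_of_mem π ?_
      rw [← hG.cent w hw hw1]
      exact ⟨hG.H_le hh, Subgroup.mem_centralizer_singleton_iff.2
        (Subgroup.mem_centralizer_iff.1 hc w hw).symm⟩
    · rintro _ ⟨z, hz, rfl⟩
      refine Subgroup.mem_centralizer_iff.2 ?_
      rintro _ ⟨a, ha, rfl⟩
      by_cases ha1 : a = 1
      · simp [ha1]
      · rw [← map_mul, ← map_mul]
        have hz' : z ∈ K ⊓ Subgroup.centralizer ({a} : Set L) := (hG.cent a ha ha1).symm ▸ hz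
        rw [Subgroup.mem_centralizer_singleton_iff.1 hz'.2]
  -- the Frobenius group `U W₁` in the quotient
  have hinj : ∀ x ∈ U ⊔ W₁, π x = 1 → x = 1 := fun x hx h =>
    Subgroup.mem_bot.1 (hG.card_K.2.2.2 ▸ ⟨hlt.le (hker.1 h), hx⟩)
  have hKR : U.map π ⊓ W₁.map π = ⊥ := by
    rw [eq_bot_iff]
    rintro _ ⟨⟨a, ha, rfl⟩, b, hb, hab⟩
    have : a⁻¹ * b = 1 := hinj _ (Subgroup.mul_mem _ (Subgroup.inv_mem _ (Subgroup.mem_sup_left ha))
      (Subgroup.mem_sup_right hb)) (by rw [map_mul, map_inv, hab, inv_mul_cancel])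
    rw [inv_mul_eq_one] at this
    subst this
    have : a = 1 := Subgroup.mem_bot.1 (hG.K_inf ▸ ⟨hG.U_le ha, hb⟩)
    simp [this]
  have hfpf : ∀ x ∈ W₁.map π, x ≠ 1 →
      U.map π ⊓ Subgroup.centralizer ({x} : Set (L ⧸ H₀)) = ⊥ := by
    rintro _ ⟨w, hw, rfl⟩ hne
    rw [eq_bot_iff]
    rintro _ ⟨⟨a, ha, rfl⟩, hc⟩
    replace hc := (mk_comm_iff H₀ a w).1 (Subgroup.mem_centralizer_singleton_iff.1 hc)
    have : a * w * a⁻¹ * w⁻¹ = 1 := by
      refine hinj _ ?_ (hker.2 hc)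
      have h1 : a ∈ U ⊔ W₁ := Subgroup.mem_sup_left ha
      have h2 : w ∈ U ⊔ W₁ := Subgroup.mem_sup_right hw
      exact mul_mem (mul_mem (mul_mem h1 h2) (inv_mem h1)) (inv_mem h2)
    have hw1 : w ≠ 1 := fun e => hne (by rw [e, map_one])
    have := hG.fpf hw hw1 ha (by
      rw [mul_inv_eq_one, mul_inv_eq_iff_eq_mul] at this
      exact this.symm)
    simp [this]
  have hRK : W₁.map π ≤ Subgroup.normalizer ((U.map π : Subgroup (L ⧸ H₀)) : Set (L ⧸ H₀)) :=
    (Subgroup.map_mono hG.U_norm).trans (Subgroup.le_normalizer_map π)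
  have hVn : V.Normal := hG.H_normal.map π (QuotientGroup.mk'_surjective H₀)
  have hnV : ∀ X : Subgroup (L ⧸ H₀), X ≤ Subgroup.normalizer (V : Set (L ⧸ H₀)) := fun X =>
    le_top.trans (Subgroup.normalizer_eq_top_iff.2 hVn).ge
  have hcop : (Nat.card ↥(U.map π ⊔ W₁.map π)).Coprime r := by
    rw [← Subgroup.map_sup]
    exact (hG.coprime_compl.symm.coprime_dvd_left
      (Subgroup.card_map_dvd _ π)).coprime_dvd_right (hrV.trans (Subgroup.card_map_dvd _ π))
  have hcW : Nat.card ↥(W₁.map π) = q := by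
    rw [← hG.card_W₁]
    refine Nat.card_congr (Equiv.ofBijective (fun x : W₁ =>
      (⟨π x, Subgroup.mem_map_of_mem π x.2⟩ : ↥(W₁.map π))) ⟨fun a b e => Subtype.ext ?_, ?_⟩).symm
    · have e' : π (a : L) = π b := congrArg Subtype.val e
      exact inv_mul_eq_one.1 (hinj _ (Subgroup.mem_sup_right (mul_mem (inv_mem a.2) b.2))
        (by rw [map_mul, map_inv, e', inv_mul_cancel]))
    · rintro ⟨_, a, ha, rfl⟩
      exact ⟨⟨a, ha⟩, rfl⟩
  have hcard : Nat.card V = Nat.card ↥(W₂.map π) ^ q := by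
    rw [OddLocal43.card_eq_pow_of_frobenius (U.map π) (W₁.map π) V hVe hcop hRK hKR hfpf (hnV _)
      (hnV _) hCU, hCW, hcW]
  have hW2 : Nat.card ↥(W₂.map π) = p := by
    have h1 : Nat.card ↥(W₂.map π) ∣ p := hG.card_W₂ ▸ Subgroup.card_map_dvd _ π
    refine ((Nat.dvd_prime hG.hp).1 h1).resolve_left fun h => hV1 ?_
    rw [h, one_pow] at hcard
    exact Subgroup.eq_bot_of_card_eq _ hcard
  rw [hW2] at hcard
  have hrp : r = p := (Nat.prime_dvd_prime_iff_eq hr hG.hp).1 (hr.dvd_of_dvd_pow (hcard ▸ hrV))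
  subst hrp
  have hW2inf : W₂ ⊓ H₀ = ⊥ := by
    refine Subgroup.eq_bot_of_card_eq _ (((Nat.dvd_prime hG.hp).1
      (hG.card_W₂ ▸ Subgroup.card_dvd_of_le inf_le_left)).resolve_right fun h => ?_)
    have e : W₂ ⊓ H₀ = W₂ := Subgroup.eq_of_le_of_card_ge inf_le_left (by rw [h, hG.card_W₂])
    have hb : W₂.map π = ⊥ := by
      rw [eq_bot_iff]
      rintro _ ⟨z, hz, rfl⟩
      exact Subgroup.mem_bot.2 (hker.2 ((e.symm ▸ hz : z ∈ W₂ ⊓ H₀).2))
    rw [hb, Subgroup.card_bot] at hW2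
    exact hG.hp.ne_one hW2.symm
  have hrel : H₀.relIndex H = r ^ q := by
    have h := Subgroup.relIndex_ker (f := π) (K := H)
    rw [hπ, QuotientGroup.ker_mk'] at h
    rw [← hcard, h]
  refine ⟨H₀, centU H U H₀, ⟨⟨hn₀, hlt.le, hrel, hW2inf, ?_, hVr, fun x => mem_centU x⟩, hmin,
    fun h => hV1 ?_, hU1, ?_⟩⟩
  · exact le_trans le_sup_right hBH₀
  · rw [eq_bot_iff, ← hCU]
    refine le_inf le_rfl ?_
    rintro _ ⟨a, ha, rfl⟩
    refine Subgroup.mem_centralizer_iff.2 ?_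
    rintro _ ⟨x, hx, rfl⟩
    exact (mk_comm_iff H₀ x a).2 (((mem_centU x).1 (h.symm ▸ hx : x ∈ centU H U H₀)).2 a ha)
  · have hnil : Group.IsNilpotent ↥(U.map π) := by
      have := hG.U_nil
      exact Group.nilpotent_of_surjective (π.subgroupMap U) (π.subgroupMap_surjective U)
    have hc := OddLocal43.commutator_le_centralizer_of_card_prime (U.map π) (W₁.map π) V hVe hcop
      hRK hKR hfpf hnil (hnV _) (hnV _) (by rw [hCW, hW2])
    intro x hx
    refine (mem_centU x).2 ⟨Subgroup.commutator_le_self U hx, fun h hh => (mk_comm_iff H₀ x h).1 ?_⟩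
    refine (Subgroup.mem_centralizer_iff.1 (hc ?_) _ (Subgroup.mem_map_of_mem π hh)).symm
    rw [← Subgroup.map_commutator]
    exact Subgroup.mem_map_of_mem π hx

end Cfsg.Agent.PF9
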