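import Cfsg.Agent.OddLocal44.PF11.Structure
import Cfsg.Agent.Lib.Coprime.Action
import Cfsg.Agent.Lib.Thompson.Replacement

/-!
# Peterfalvi (9.6): the chief factor `H / C_H(U)`

For `M = H U W₁` as in §9, with `U` not centralizing `H` and `|W₂|` prime, the subgroup
`H₀ = C_H(U)` is normal in `M`, meets `W₂` trivially, and `H / H₀` is an elementary abelian chief
factor of order `p ^ q`.
-/

set_option autoImplicit false
set_option linter.unusedSectionVars false
set_option linter.style.haveILetI false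

namespace Cfsg.Agent.PF9

open Cfsg Subgroup
open Cfsg.Agent.OddLocal44.PF11 (GroupHyp ChiefHyp)
open scoped commutatorElement

universe u

variable {L : Type u} [Group L] [Finite L] {K H U W₁ W₂ : Subgroup L} {p q : ℕ}
  (hh : GroupHyp K H U W₁ W₂ p q) (hnc : ¬ U ≤ centralizer (H : Set L))
include hh hnc

/-- The kernel `H₀` of the chief factor. -/
local notation "H₀" => H ⊓ centralizer (U : Set L)

theorem U_ne : U ≠ ⊥ := fun h0 => hnc (h0 ▸ bot_le)

omit hnc in
theorem W_inf_U : U ⊓ W₁ = ⊥ := le_bot_iff.1 (hh.K_inf ▸ inf_le_inf_right W₁ hh.U_le)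

omit hnc in
/-- The centralizer of `W₁` in a subgroup of `K`. -/
theorem inf_centralizer_W₁ {N : Subgroup L} (hNK : N ≤ K) :
    N ⊓ centralizer (W₁ : Set L) = N ⊓ W₂ := by
  obtain ⟨w, hw, hw1⟩ := hh.exists_w
  refine le_antisymm ?_ ?_
  · intro x hx
    refine ⟨hx.1, ?_⟩
    rw [← hh.cent w hw hw1]
    exact ⟨hNK hx.1, centralizer_le (Set.singleton_subset_iff.mpr hw) hx.2⟩
  · intro x hx
    refine ⟨hx.1, mem_centralizer_iff.mpr fun v hv => ?_⟩
    rcases eq_or_ne v 1 with rfl | hv1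
    · simp
    · have h1 : x ∈ K ⊓ centralizer ({v} : Set L) := (hh.cent v hv hv1).ge hx.2
      exact (mem_centralizer_singleton_iff.mp h1.2).symm

/-- Wielandt's order formula on a normal subgroup of `L` inside `H`. -/
theorem card_formula (N : Subgroup L) [N.Normal] (hNH : N ≤ H) :
    Nat.card ↥(N ⊓ W₂ ⊓ centralizer (U : Set L)) ^ q * Nat.card N =
      Nat.card ↥(N ⊓ W₂) ^ q * Nat.card ↥(N ⊓ centralizer (U : Set L)) := by
  haveI := hh.H_nil
  have h := S1545.result U W₁ N (U_ne hh hnc) hh.W₁_ne (W_inf_U hh)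
    (fun e he u hu => (mem_normalizer_iff.1 (hh.U_norm he) u).1 hu)
    (fun e he he1 u hu hc => hh.fpf he he1 hu hc)
    (fun x _ a ha => (inferInstance : N.Normal).conj_mem a ha x)
    (le_bot_iff.1 (hh.card_K.2.2.2 ▸ inf_le_inf_right _ hNH))
    (solvable_of_solvable_injective (inclusion_injective hNH))
    (hh.coprime_compl.coprime_dvd_left (card_dvd_of_le hNH))
  have h2 : N ⊓ centralizer ((U ⊔ W₁ : Subgroup L) : Set L) =
      N ⊓ W₂ ⊓ centralizer (U : Set L) := by
    rw [← inf_centralizer_W₁ hh (hNH.trans hh.H_le)]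
    refine le_antisymm (le_inf (le_inf inf_le_left ?_) ?_) fun x hx => ⟨hx.1.1, ?_⟩
    · exact inf_le_right.trans (centralizer_le (SetLike.coe_subset_coe.2 le_sup_right))
    · exact inf_le_right.trans (centralizer_le (SetLike.coe_subset_coe.2 le_sup_left))
    · exact le_centralizer_iff.1 (sup_le (le_centralizer_iff.1 (zpowers_le.2 hx.2))
        (le_centralizer_iff.1 (zpowers_le.2 hx.1.2))) (mem_zpowers x)
  rwa [h2, inf_centralizer_W₁ hh (hNH.trans hh.H_le), hh.card_W₁] at h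

/-- `U` centralizes `H` modulo a normal subgroup containing `W₂`. -/
theorem sup_eq_of_W₂_le (N : Subgroup L) [N.Normal] (hNH : N ≤ H) (hW : W₂ ≤ N) :
    N ⊔ H₀ = H := by
  haveI := hh.H_normal
  have hN := card_formula hh hnc N hNH
  have hH := card_formula hh hnc H le_rfl
  rw [inf_eq_right.2 hW] at hN
  rw [inf_eq_right.2 hh.W₂_le] at hH
  have h1 := Thompson.card_sup_mul_card_inf (H := N) (K := H₀)
    (le_top.trans (normalizer_eq_top_iff.2 inferInstance).ge)
  rw [show N ⊓ H₀ = N ⊓ centralizer (U : Set L) by rw [← inf_assoc, inf_eq_left.2 hNH]] at h1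
  refine eq_of_le_of_card_ge (sup_le hNH inf_le_left) (le_of_eq ?_)
  refine Nat.eq_of_mul_eq_mul_right (Nat.card_pos (α := ↥(N ⊓ centralizer (U : Set L)))) ?_
  rw [h1]
  refine Nat.eq_of_mul_eq_mul_left
    (pow_pos (Nat.card_pos (α := ↥(W₂ ⊓ centralizer (U : Set L)))) q) ?_
  calc _ = (Nat.card ↥(W₂ ⊓ centralizer (U : Set L)) ^ q * Nat.card H) *
        Nat.card ↥(N ⊓ centralizer (U : Set L)) := by ring
    _ = _ := by rw [hH, ← mul_assoc, hN]; ring

theorem centralizer_ne : H₀ ≠ H := fun h0 =>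
  hnc (le_centralizer_iff.1 (inf_eq_left.1 h0))

theorem not_W₂_le_derived : ¬ W₂ ≤ ⁅H, H⁆ := by
  intro hW
  haveI := hh.H_normal
  have h1 := sup_eq_of_W₂_le hh hnc ⁅H, H⁆ (commutator_le_self H) hW
  refine centralizer_ne hh hnc ?_
  have h2 := OddLocal44.PF11.eq_top_of_sup_commutator (G := H) hh.H_nil
    ((H₀).subgroupOf H) ?_
  · exact le_antisymm inf_le_left (subgroupOf_eq_top.1 h2)
  · refine map_injective H.subtype_injective ?_
    rw [Subgroup.map_sup, map_subgroupOf_eq_of_le inf_le_left, commutator_def, map_commutator,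
      ← MonoidHom.range_eq_map, range_subtype, sup_comm, h1]

omit hnc in
/-- `W₂` is outside `N` or inside. -/
theorem W₂_inf_or {N : Subgroup L} (h : ¬ W₂ ≤ N) : W₂ ⊓ N = ⊥ := by
  haveI : Fact (Nat.card W₂).Prime := ⟨hh.card_W₂ ▸ hh.hp⟩
  rcases eq_bot_or_eq_top_of_prime_card ((W₂ ⊓ N).subgroupOf W₂) with h1 | h1
  · rw [← map_subgroupOf_eq_of_le (inf_le_left : W₂ ⊓ N ≤ W₂), h1, Subgroup.map_bot]
  · exact absurd (subgroupOf_eq_top.1 h1) fun h2 => h (h2.trans inf_le_right)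

theorem commutator_le_H₀ : ⁅H, H⁆ ≤ H₀ := by
  haveI := hh.H_normal
  refine le_inf (commutator_le_self H) fun a ha => mem_centralizer_iff.2 fun u hu => ?_
  exact hh.U_centralizes (U_ne hh hnc) ⁅H, H⁆ (commutator_le_self H)
    (W₂_inf_or hh (not_W₂_le_derived hh hnc)) u hu a ha

theorem normal_H₀ : (H₀).Normal := by
  haveI := hh.H_normal
  have hHn : H ≤ normalizer ((H₀ : Subgroup L) : Set L) := by
    refine Coprime.le_normalizer_of_conj_mem fun h hh' a ha => ?_
    rw [show h * a * h⁻¹ = ⁅h, a⁆ * a by simp [commutatorElement_def]]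
    exact mul_mem (commutator_le_H₀ hh hnc (commutator_mem_commutator hh' ha.1)) ha
  have hn : ∀ x ∈ normalizer (U : Set L), x ∈ normalizer ((H₀ : Subgroup L) : Set L) := fun x hx =>
    Coprime.le_normalizer_inf (zpowers_le.2 ((normalizer_eq_top_iff.2 inferInstance).ge trivial))
      (Coprime.le_normalizer_centralizer (zpowers_le.2 hx)) (mem_zpowers x)
  rw [← normalizer_eq_top_iff, eq_top_iff, ← hh.K_sup, ← hh.HU]
  exact sup_le (sup_le hHn fun x hx => hn x (le_normalizer hx)) fun x hx => hn x (hh.U_norm hx)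

theorem not_W₂_le_H₀ : ¬ W₂ ≤ H₀ := by
  intro hW
  haveI := normal_H₀ hh hnc
  have h1 := sup_eq_of_W₂_le hh hnc H₀ inf_le_left hW
  rw [sup_idem] at h1
  exact centralizer_ne hh hnc h1

theorem relIndex_H₀ : (H₀).relIndex H = p ^ q := by
  haveI := hh.H_normal
  have h := card_formula hh hnc H le_rfl
  rw [inf_eq_right.2 hh.W₂_le, hh.card_W₂] at h
  have h1 : W₂ ⊓ centralizer (U : Set L) = ⊥ := le_bot_iff.1 ((le_inf inf_le_left
    (le_inf (inf_le_left.trans hh.W₂_le) inf_le_right)).trans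
    (W₂_inf_or hh (not_W₂_le_H₀ hh hnc)).le)
  rw [h1, Subgroup.card_bot, one_pow, one_mul] at h
  have h2 : Nat.card ↥H₀ * (H₀).relIndex H = Nat.card H := by
    rw [← Subgroup.relIndex_bot_left, ← Subgroup.relIndex_bot_left,
      Subgroup.relIndex_mul_relIndex _ _ _ bot_le inf_le_left]
  rw [h, mul_comm] at h2
  exact Nat.eq_of_mul_eq_mul_right Nat.card_pos h2

/-- The only normal subgroups between `H₀` and `H` are the ends. -/
theorem chief (N : Subgroup L) [N.Normal] (h0 : H₀ ≤ N) (hN : N ≤ H) : N = H₀ ∨ N = H := by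
  by_cases hW : W₂ ≤ N
  · refine Or.inr ?_
    have h1 := sup_eq_of_W₂_le hh hnc N hN hW
    rwa [sup_eq_left.2 h0] at h1
  · refine Or.inl (le_antisymm (le_inf hN fun a ha => mem_centralizer_iff.2 fun u hu => ?_) h0)
    exact hh.U_centralizes (U_ne hh hnc) N hN (W₂_inf_or hh hW) u hu a ha

theorem pow_mem_H₀ {x : L} (hx : x ∈ H) : x ^ p ∈ H₀ := by
  haveI := hh.H_normal
  haveI hn := normal_H₀ hh hnc
  have hmod : ∀ {a b : L}, a ∈ H → b ∈ H → QuotientGroup.mk' H₀ a * QuotientGroup.mk' H₀ b =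
      QuotientGroup.mk' H₀ b * QuotientGroup.mk' H₀ a := fun {a b} ha hb => by
    rw [← commutatorElement_eq_one_iff_mul_comm, ← map_commutatorElement]
    exact (QuotientGroup.eq_one_iff _).2
      (commutator_le_H₀ hh hnc (commutator_mem_commutator ha hb))
  let N : Subgroup L :=
    { carrier := {b | b ∈ H ∧ ∃ a ∈ H, QuotientGroup.mk' H₀ b = QuotientGroup.mk' H₀ a ^ p}
      one_mem' := ⟨one_mem _, 1, one_mem _, by simp⟩
      mul_mem' := by
        rintro b c ⟨hb, a, ha, h1⟩ ⟨hc, d, hd, h2⟩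
        refine ⟨mul_mem hb hc, a * d, mul_mem ha hd, ?_⟩
        rw [map_mul, h1, h2, map_mul, (show Commute _ _ from hmod ha hd).mul_pow]
      inv_mem' := by
        rintro b ⟨hb, a, ha, h1⟩
        exact ⟨inv_mem hb, a⁻¹, inv_mem ha, by rw [map_inv, h1, map_inv, inv_pow]⟩ }
  haveI : N.Normal := ⟨fun b hb t => by
    obtain ⟨hb, a, ha, h1⟩ := hb
    refine ⟨hh.H_normal.conj_mem b hb t, t * a * t⁻¹, hh.H_normal.conj_mem a ha t, ?_⟩
    rw [map_mul, map_mul, h1, map_mul, map_mul, map_inv, conj_pow]⟩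
  have hN0 : H₀ ≤ N := fun b hb => ⟨hb.1, 1, one_mem _, by
    rw [map_one, one_pow]; exact (QuotientGroup.eq_one_iff _).2 hb⟩
  rcases chief hh hnc N hN0 fun b hb => hb.1 with h | h
  · exact h.le ⟨pow_mem hx p, x, hx, by rw [map_pow]⟩
  exfalso
  -- the `p`-th power map would be onto `H / H₀`
  have key : ∀ (n : ℕ) (b : L), b ∈ H →
      ∃ a ∈ H, QuotientGroup.mk' H₀ b = QuotientGroup.mk' H₀ a ^ p ^ n := by
    intro n
    induction n with
    | zero => exact fun b hb => ⟨b, hb, by rw [pow_zero, pow_one]⟩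
    | succ n ih =>
      intro b hb
      obtain ⟨a, ha, h1⟩ := ih b hb
      obtain ⟨-, c, hc, h2⟩ := h.ge ha
      exact ⟨c, hc, by rw [h1, h2, ← pow_mul, ← pow_succ']⟩
  refine centralizer_ne hh hnc (le_antisymm inf_le_left fun b hb => ?_)
  obtain ⟨a, ha, h1⟩ := key q b hb
  refine (QuotientGroup.eq_one_iff (N := H₀) b).1 (h1.trans ?_)
  rw [← map_pow]
  refine (QuotientGroup.eq_one_iff _).2 ?_
  haveI := (hn.subgroupOf H)
  have h3 := Subgroup.pow_index_mem ((H₀).subgroupOf H) (⟨a, ha⟩ : H)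
  rw [show ((H₀).subgroupOf H).index = p ^ q from relIndex_H₀ hh hnc, mem_subgroupOf] at h3
  exact h3

/-- `U ∩ C(H)` is the centralizer in `U` of `H / H₀`. -/
theorem mem_centralizerU {x : L} :
    x ∈ U ⊓ centralizer (H : Set L) ↔ x ∈ U ∧ ∀ h ∈ H, x * h * x⁻¹ * h⁻¹ ∈ H₀ := by
  haveI := hh.H_normal
  constructor
  · rintro ⟨hxU, hxC⟩
    refine ⟨hxU, fun h hh' => ?_⟩
    rw [← mem_centralizer_iff.1 hxC h hh', mul_inv_cancel_right, mul_inv_cancel]
    exact one_mem _
  rintro ⟨hxU, hx⟩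
  refine ⟨hxU, mem_centralizer_iff.2 fun h hh' => ?_⟩
  -- coprime action: the commutators are fixed
  set a := h⁻¹ * (x * h * x⁻¹) with ha
  have ha0 : a ∈ H₀ := by
    haveI := normal_H₀ hh hnc
    have := (normal_H₀ hh hnc).conj_mem _ (hx h hh') h⁻¹
    rw [ha]; convert this using 1; group
  have hca : Commute x a := mem_centralizer_iff.1 ha0.2 x hxU
  have hpow : ∀ n : ℕ, x ^ n * h * (x ^ n)⁻¹ = h * a ^ n := by
    intro n
    induction n with
    | zero => simp
    | succ n ih =>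
      calc x ^ (n + 1) * h * (x ^ (n + 1))⁻¹ = x * (x ^ n * h * (x ^ n)⁻¹) * x⁻¹ := by
            rw [pow_succ']; group
        _ = (x * h * x⁻¹) * (x * a ^ n * x⁻¹) := by rw [ih]; group
        _ = h * a * a ^ n := by rw [(hca.pow_right n).eq, ha]; group
        _ = h * a ^ (n + 1) := by rw [pow_succ' a n, mul_assoc]
  have h1 : a ^ orderOf x = 1 := by
    have := hpow (orderOf x)
    rw [pow_orderOf_eq_one, one_mul, inv_one, mul_one] at this
    exact mul_eq_left.1 this.symm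
  have h2 : a = 1 := orderOf_eq_one_iff.1 (Nat.eq_one_of_dvd_coprimes hh.coprime_compl
    (Subgroup.orderOf_dvd_natCard H ha0.1)
    ((orderOf_dvd_of_pow_eq_one h1).trans
      (Subgroup.orderOf_dvd_natCard _ (mem_sup_left hxU))))
  rw [ha, inv_mul_eq_one] at h2
  calc h * x = x * h * x⁻¹ * x := by rw [← h2]
    _ = x * h := by group

/-- Peterfalvi (9.6). -/
theorem chiefHyp : ChiefHyp H U W₂ H₀ (U ⊓ centralizer (H : Set L)) p q where
  normal := normal_H₀ hh hnc
  le := inf_le_left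
  card_eq := relIndex_H₀ hh hnc
  W₂_inf := W₂_inf_or hh (not_W₂_le_H₀ hh hnc)
  comm := commutator_le_H₀ hh hnc
  pow := fun _ hx => pow_mem_H₀ hh hnc hx
  mem_C := fun _ => mem_centralizerU hh hnc

end Cfsg.Agent.PF9
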